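import Mathlib

/-!
# Fibre products of finite type algebras along surjections are of finite type
-/

universe u

namespace Groth.Agent.FibreProd7

theorem finiteType (R : Type u) [CommRing R] [IsNoetherianRing R] {ι : Type u} [Fintype ι]
    (Q : Type u) [CommRing Q] [Algebra R Q] [Algebra.FiniteType R Q] (A B : ι → Type u) [∀ i, CommRing (A i)]
    [∀ i, CommRing (B i)] [∀ i, Algebra R (A i)] [∀ i, Algebra R (B i)] (hA : ∀ i, Algebra.FiniteType R (A i))
    (φ : ∀ i, A i →ₐ[R] B i) (ψ : ∀ i, Q →ₐ[R] B i)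
    (hφ : ∀ i, Function.Surjective (φ i)) (hψ : ∀ i, Function.Surjective (ψ i)) :
    Algebra.FiniteType R ↥(AlgHom.equalizer ((AlgHom.pi ψ).comp (AlgHom.fst R Q (∀ i, A i)))
      ((AlgHom.pi fun i => (φ i).comp (Pi.evalAlgHom R A i)).comp (AlgHom.snd R Q (∀ i, A i)))) := by
  classical
  set E := AlgHom.equalizer ((AlgHom.pi ψ).comp (AlgHom.fst R Q (∀ i, A i)))
    ((AlgHom.pi fun i => (φ i).comp (Pi.evalAlgHom R A i)).comp (AlgHom.snd R Q (∀ i, A i)))
  have hmem : ∀ x : Q × ∀ i, A i, x ∈ E ↔ ∀ i, ψ i x.1 = φ i (x.2 i) := fun x => funext_iff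
  let π : E →ₐ[R] Q := (AlgHom.fst R Q (∀ i, A i)).comp E.val
  let pr : ∀ i, E →ₐ[R] A i := fun i => (Pi.evalAlgHom R A i).comp ((AlgHom.snd R Q (∀ i, A i)).comp E.val)
  choose lift hlift using fun (i : ι) (b : B i) => hφ i b
  have hπ : Function.Surjective π := fun q =>
    ⟨⟨(q, fun i => lift i (ψ i q)), (hmem _).mpr fun i => (hlift i _).symm⟩, rfl⟩
  have hpr : ∀ i, Function.Surjective (pr i) := fun i a => by
    obtain ⟨q, hq⟩ := hψ i (φ i a)
    refine ⟨⟨(q, Function.update (fun j => lift j (ψ j q)) i a), (hmem _).mpr fun j => ?_⟩, show Function.update (fun j => lift j (ψ j q)) i a i = a from Function.update_self i a _⟩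
    rcases eq_or_ne j i with rfl | h
    · simpa using hq
    · simp [Function.update_of_ne h, hlift]
  let sgl : ∀ i, RingHom.ker (φ i) → E := fun i k =>
    ⟨(0, Pi.single i (k : A i)), (hmem _).mpr fun j => by
      rcases eq_or_ne j i with rfl | h
      · simp [RingHom.mem_ker.mp k.2]
      · simp [Pi.single_eq_of_ne h]⟩
  haveI : ∀ i, IsNoetherianRing (A i) := fun i => Algebra.FiniteType.isNoetherianRing R (A i)
  choose gens hgens using fun i => (IsNoetherian.noetherian (Submodule.comap (LinearMap.id : A i →ₗ[A i] A i) (RingHom.ker (φ i))))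
  obtain ⟨sQ, hsQ⟩ := (inferInstance : Algebra.FiniteType R Q).out
  choose sA hsA using fun i => (hA i).out
  choose liftQ hliftQ using hπ
  choose liftA hliftA using hpr
  have hgk : ∀ i, ∀ k ∈ gens i, k ∈ RingHom.ker (φ i) := fun i k hk => by
    have := (hgens i).le (Submodule.subset_span hk)
    simpa using this
  let S : Finset E := sQ.image liftQ ∪ Finset.univ.biUnion (fun i => (sA i).image (liftA i)) ∪
    Finset.univ.biUnion (fun i => (gens i).attach.image fun k => sgl i ⟨k.1, hgk i k.1 k.2⟩)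
  refine ⟨⟨S, eq_top_iff.mpr fun x _ => ?_⟩⟩
  let T := Algebra.adjoin R (S : Set E)
  have hTQ : ∀ q : Q, ∃ e ∈ T, π e = q := fun q => by
    have : q ∈ T.map π := by
      have hle : Algebra.adjoin R (sQ : Set Q) ≤ T.map π := Algebra.adjoin_le fun s hs =>
        ⟨liftQ s, Algebra.subset_adjoin (by simp only [S, Finset.coe_union, Finset.coe_image]; exact Or.inl (Or.inl ⟨s, hs, rfl⟩)), hliftQ s⟩
      exact hle (by rw [hsQ]; trivial)
    exact this
  have hTA : ∀ i (a : A i), ∃ e ∈ T, pr i e = a := fun i a => by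
    have hle : Algebra.adjoin R (sA i : Set (A i)) ≤ T.map (pr i) := Algebra.adjoin_le fun s hs =>
      ⟨liftA i s, Algebra.subset_adjoin (Finset.mem_coe.mpr (Finset.mem_union_left _ (Finset.mem_union_right _
        (Finset.mem_biUnion.mpr ⟨i, Finset.mem_univ _, Finset.mem_image.mpr ⟨s, hs, rfl⟩⟩)))), hliftA i s⟩
    exact hle (by rw [hsA i]; trivial)
  have hker : ∀ i (k : A i), k ∈ RingHom.ker (φ i) →
      ∃ e ∈ T, (e : Q × ∀ i, A i) = (0, Pi.single i k) := by
    intro i k hk
    have hk' : k ∈ Submodule.span (A i) (gens i : Set (A i)) := by rw [hgens i]; simpa using hk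
    induction hk' using Submodule.span_induction with
    | mem k' hk' =>
      exact ⟨sgl i ⟨k', hgk i k' hk'⟩, Algebra.subset_adjoin (Finset.mem_coe.mpr (Finset.mem_union_right _
        (Finset.mem_biUnion.mpr ⟨i, Finset.mem_univ _, Finset.mem_image.mpr ⟨⟨k', hk'⟩, Finset.mem_attach _ _, rfl⟩⟩))), rfl⟩
    | zero => exact ⟨0, zero_mem _, by simp; rfl⟩
    | add a b ha hb iha ihb =>
      have hsub : ∀ y ∈ Submodule.span (A i) (gens i : Set (A i)), y ∈ RingHom.ker (φ i) := fun y hy => by
        rw [hgens i] at hy; simpa using hy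
      obtain ⟨e, he, hee⟩ := iha (hsub a ha)
      obtain ⟨e', he', hee'⟩ := ihb (hsub b hb)
      exact ⟨e + e', add_mem he he', by rw [Subalgebra.coe_add, hee, hee', Prod.mk_add_mk, add_zero, Pi.single_add]⟩
    | smul c a ha iha =>
      obtain ⟨e, he, hee⟩ := iha (by rw [hgens i] at ha; simpa using ha)
      obtain ⟨d, hd, hdc⟩ := hTA i c
      refine ⟨d * e, mul_mem hd he, ?_⟩
      rw [Subalgebra.coe_mul, hee]
      refine Prod.ext (mul_zero _) (funext fun j => ?_)
      rcases eq_or_ne j i with rfl | h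
      · show (d : Q × ∀ i, A i).2 j * Pi.single j a j = Pi.single j (c • a) j
        rw [Pi.single_eq_same, Pi.single_eq_same, show (d : Q × ∀ i, A i).2 j = c from hdc]; rfl
      · show _ * Pi.single i a j = Pi.single i (c • a) j
        rw [Pi.single_eq_of_ne h, Pi.single_eq_of_ne h, mul_zero]
  obtain ⟨e, he, hee⟩ := hTQ (π x)
  have hfst : ((x - e : E) : Q × ∀ i, A i).1 = 0 := by
    show π (x - e) = 0
    rw [map_sub, hee, sub_self]
  choose f hf hfe using fun i => hker i (((x - e : E) : Q × ∀ i, A i).2 i) (RingHom.mem_ker.mpr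
    (((hmem _).mp (x - e : E).2 i).symm.trans (by rw [hfst, map_zero])))
  have hsum : x = e + ∑ i, f i := by
    rw [← sub_eq_iff_eq_add']
    refine Subtype.ext (Prod.ext ?_ ?_)
    · rw [hfst, AddSubmonoidClass.coe_finset_sum, Prod.fst_sum]; simp [hfe]
    · rw [AddSubmonoidClass.coe_finset_sum, Prod.snd_sum]
      simp only [hfe]
      exact (Finset.univ_sum_single _).symm
  rw [hsum]
  exact add_mem he (sum_mem fun i _ => hf i)

end Groth.Agent.FibreProd7
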